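import Mathlib
import Cfsg.Agent.H384.RC.KRule
import Cfsg.Agent.H384.RC.Asm
import Cfsg.Agent.S0249

/-!
# S3510 part B, box B33: `PSL₃(3)` (helper417)

`killed_33` : the orthogonal involutory dualities of `PSL₃(3)`.
-/

set_option autoImplicit false

open Matrix Cfsg
open Cfsg.Agent.H106.RC Cfsg.Agent.H999.PslGraph Cfsg.Agent.H384.RC
open Cfsg.Agent.ClassicalGeometry.AutPSL.Auto

namespace Cfsg.Agent.H417.RC

/-! ### the field with three elements -/

section field

variable {F : Type*} [Field F] [Fintype F] (hF : Fintype.card F = 3)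
include hF

theorem three_eq : (3 : F) = 0 := by
  have h := Nat.cast_card_eq_zero F
  rw [hF] at h
  exact_mod_cast h

theorem cases3 (a : F) : a = 0 ∨ a = 1 ∨ a = -1 := by
  have h := FiniteField.pow_card a
  rw [hF] at h
  have h1 : a * ((a - 1) * (a + 1)) = 0 := by linear_combination h
  rcases mul_eq_zero.1 h1 with h2 | h2
  · exact Or.inl h2
  rcases mul_eq_zero.1 h2 with h3 | h3
  · exact Or.inr (Or.inl (by linear_combination h3))
  · exact Or.inr (Or.inr (by linear_combination h3))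

theorem sq3 {a : F} (ha : a ≠ 0) : a * a = 1 := by
  rcases cases3 hF a with h | h | h
  · exact (ha h).elim
  · rw [h, one_mul]
  · rw [h, neg_mul_neg, one_mul]

theorem eq_refl3 (σ : F ≃+* F) : σ = RingEquiv.refl F := by
  apply RingEquiv.ext
  intro a
  rw [RingEquiv.refl_apply]
  rcases cases3 hF a with h | h | h
  · rw [h, map_zero]
  · rw [h, map_one]
  · rw [h, map_neg, map_one]

theorem one_of_sum {a b c : F} (h : a * a + b * b + c * c = 1) :
    (a ≠ 0 ∧ b = 0 ∧ c = 0) ∨ (a = 0 ∧ b ≠ 0 ∧ c = 0) ∨ (a = 0 ∧ b = 0 ∧ c ≠ 0) := by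
  have h3 := three_eq hF
  have h1 : (1 : F) ≠ 0 := one_ne_zero
  by_cases ha : a = 0
  · by_cases hb : b = 0
    · by_cases hc : c = 0
      · exfalso
        rw [ha, hb, hc] at h
        apply h1
        linear_combination -h
      · exact Or.inr (Or.inr ⟨ha, hb, hc⟩)
    · by_cases hc : c = 0
      · exact Or.inr (Or.inl ⟨ha, hb, hc⟩)
      · exfalso
        rw [ha, sq3 hF hb, sq3 hF hc] at h
        apply h1
        linear_combination h
  · by_cases hb : b = 0
    · by_cases hc : c = 0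
      · exact Or.inl ⟨ha, hb, hc⟩
      · exfalso
        rw [hb, sq3 hF ha, sq3 hF hc] at h
        apply h1
        linear_combination h
    · by_cases hc : c = 0
      · exfalso
        rw [hc, sq3 hF ha, sq3 hF hb] at h
        apply h1
        linear_combination h
      · exfalso
        rw [sq3 hF ha, sq3 hF hb, sq3 hF hc] at h
        apply h1
        linear_combination h3 - h

end field

/-! ### signed permutation matrices -/

section mat

variable {F : Type*} [Field F] [Fintype F] (hF : Fintype.card F = 3)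

/-- an orthogonal matrix is a signed permutation matrix -/
theorem exists_perm (hF : Fintype.card F = 3) (A : Matrix (Fin 3) (Fin 3) F) (hA : Aᵀ * A = 1) :
    ∃ π : Equiv.Perm (Fin 3), ∀ i j, A i j ≠ 0 ↔ i = π j := by
  have hmul : ∀ j k, A 0 j * A 0 k + A 1 j * A 1 k + A 2 j * A 2 k = (1 : Matrix (Fin 3) (Fin 3) F) j k := by
    intro j k
    rw [← hA, Matrix.mul_apply, Fin.sum_univ_three]
    rfl
  have h1 : ∀ j, ∃ i, A i j ≠ 0 ∧ ∀ k, k ≠ i → A k j = 0 := by
    intro j
    have h2 := hmul j j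
    rw [Matrix.one_apply_eq] at h2
    rcases one_of_sum hF h2 with ⟨h3, h4, h5⟩ | ⟨h3, h4, h5⟩ | ⟨h3, h4, h5⟩
    · refine ⟨0, h3, fun k hk => ?_⟩
      fin_cases k
      · exact (hk rfl).elim
      · exact h4
      · exact h5
    · refine ⟨1, h4, fun k hk => ?_⟩
      fin_cases k
      · exact h3
      · exact (hk rfl).elim
      · exact h5
    · refine ⟨2, h5, fun k hk => ?_⟩
      fin_cases k
      · exact h3
      · exact h4
      · exact (hk rfl).elim
  choose f hf1 hf2 using h1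
  have hf : Function.Injective f := by
    intro j k hjk
    by_contra hne
    have h2 := hmul j k
    rw [Matrix.one_apply_ne hne] at h2
    have h3 : A 0 j * A 0 k + A 1 j * A 1 k + A 2 j * A 2 k = ∑ i, A i j * A i k := by
      rw [Fin.sum_univ_three]
    rw [h3, Finset.sum_eq_single (f j) (fun i _ hi => by rw [hf2 j i hi, zero_mul])
      (fun h => (h (Finset.mem_univ _)).elim)] at h2
    rcases mul_eq_zero.1 h2 with h4 | h4
    · exact hf1 j h4
    · rw [hjk] at h4
      exact hf1 k h4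
  refine ⟨Equiv.ofBijective f (Finite.injective_iff_bijective.1 hf), fun i j => ?_⟩
  rw [Equiv.ofBijective_apply]
  constructor
  · intro h
    by_contra hne
    exact h (hf2 j i hne)
  · intro h
    rw [h]
    exact hf1 j

theorem pow_entry {A : Matrix (Fin 3) (Fin 3) F} {π : Equiv.Perm (Fin 3)} (h : ∀ i j, A i j ≠ 0 ↔ i = π j) (k : ℕ) :
    ∀ i j, (A ^ k) i j ≠ 0 ↔ i = (π ^ k) j := by
  induction k with
  | zero =>
    intro i j
    rw [pow_zero, pow_zero, Equiv.Perm.one_apply]
    by_cases hij : i = j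
    · rw [hij, Matrix.one_apply_eq]
      exact ⟨fun _ => rfl, fun _ => one_ne_zero⟩
    · rw [Matrix.one_apply_ne hij]
      exact ⟨fun h => (h rfl).elim, fun h => (hij h).elim⟩
  | succ k ih =>
    intro i j
    rw [pow_succ, Matrix.mul_apply, Finset.sum_eq_single (π j) (fun l _ hl => by
      have h1 : A l j = 0 := by
        by_contra hne
        exact hl ((h l j).1 hne)
      rw [h1, mul_zero]) (fun h => (h (Finset.mem_univ _)).elim), pow_succ, Equiv.Perm.mul_apply, ← ih i (π j)]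
    constructor
    · exact fun h => left_ne_zero_of_mul h
    · exact fun h1 => mul_ne_zero h1 ((h (π j) j).2 rfl)

end mat

theorem perm_three (π : Equiv.Perm (Fin 3)) (h : π ^ 3 = 1) (h1 : π ≠ 1) :
    (π 0 = 1 ∧ π 1 = 2 ∧ π 2 = 0) ∨ (π 0 = 2 ∧ π 1 = 0 ∧ π 2 = 1) := by
  revert π
  decide

theorem perm_prime (π : Equiv.Perm (Fin 3)) {r : ℕ} (hr : r.Prime) (hr2 : r ≠ 2) (h : π ^ r = 1) (h1 : π ≠ 1) : r = 3 := by
  have := Fact.mk hr
  have h2 : orderOf π = r := orderOf_eq_prime h h1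
  have h3 : orderOf π ∣ 6 := by
    have h4 := orderOf_dvd_card (x := π)
    rw [Fintype.card_perm, Fintype.card_fin] at h4
    exact h4
  rw [h2] at h3
  have h4 : r ∣ 2 * 3 := h3
  rcases hr.dvd_mul.1 h4 with h5 | h5
  · exact (hr2 ((Nat.prime_dvd_prime_iff_eq hr Nat.prime_two).1 h5)).elim
  · exact (Nat.prime_dvd_prime_iff_eq hr Nat.prime_three).1 h5

/-! ### the elements -/

section elts

variable {F : Type*} [Field F]

/-- a diagonal sign matrix -/
def dg (d : Fin 3 → Fˣ) : GL (Fin 3) F where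
  val := Matrix.diagonal fun i => (d i : F)
  inv := Matrix.diagonal fun i => ((d i)⁻¹ : Fˣ)
  val_inv := by
    rw [Matrix.diagonal_mul_diagonal]
    simp
  inv_val := by
    rw [Matrix.diagonal_mul_diagonal]
    simp

theorem coe_dg (d : Fin 3 → Fˣ) : (dg d : Matrix (Fin 3) (Fin 3) F) = Matrix.diagonal fun i => (d i : F) := rfl

/-- the root matrix -/
def qm (F : Type*) [Field F] : GL (Fin 3) F where
  val := !![1, 0, 0; 1, 1, 0; 0, 0, 1]
  inv := !![1, 0, 0; -1, 1, 0; 0, 0, 1]
  val_inv := by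
    ext i j
    fin_cases i <;> fin_cases j <;> simp [Matrix.mul_apply, Fin.sum_univ_three]
  inv_val := by
    ext i j
    fin_cases i <;> fin_cases j <;> simp [Matrix.mul_apply, Fin.sum_univ_three]

theorem coe_qm : (qm F : Matrix (Fin 3) (Fin 3) F) = !![1, 0, 0; 1, 1, 0; 0, 0, 1] := rfl

theorem det_qm : (qm F : Matrix (Fin 3) (Fin 3) F).det = 1 := by
  rw [coe_qm, Matrix.det_fin_three]
  simp

/-- `diag(-1,-1,1)` -/
def dE (F : Type*) [Field F] : Fin 3 → Fˣ := ![-1, -1, 1]

theorem qm_dE : qm F * dg (dE F) = dg (dE F) * qm F := by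
  apply Units.ext
  rw [Units.val_mul, Units.val_mul, coe_qm, coe_dg]
  ext i j
  fin_cases i <;> fin_cases j <;> simp [Matrix.mul_apply, Fin.sum_univ_three, dE, Matrix.diagonal]

theorem qm_t : (!![1, 0, 0; 1, 1, 0; 0, 0, 1] : Matrix (Fin 3) (Fin 3) F)ᵀ = !![1, 1, 0; 0, 1, 0; 0, 0, 1] := by
  ext i j
  fin_cases i <;> fin_cases j <;> rfl

theorem coe_W : ((qm F * (ct (qm F))⁻¹ : GL (Fin 3) F) : Matrix (Fin 3) (Fin 3) F) = !![1, 1, 0; 1, 2, 0; 0, 0, 1] := by
  rw [Units.val_mul, coe_ct_inv, coe_qm, qm_t, Matrix.mul_fin_three]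
  congr 1
  ext i j
  fin_cases i <;> fin_cases j <;> simp <;> norm_num

theorem qm_sq (h3 : (3 : F) = 0) : qm F * (ct (qm F))⁻¹ * (qm F * (ct (qm F))⁻¹) = dg (dE F) := by
  apply Units.ext
  rw [Units.val_mul, coe_W, coe_dg, Matrix.mul_fin_three]
  ext i j
  fin_cases i <;> fin_cases j <;> simp [dE, Matrix.diagonal]
  all_goals try linear_combination h3
  all_goals try linear_combination 2 * h3

/-- the commutator of a diagonal sign matrix with a signed permutation matrix -/
theorem comm_dg {A : GL (Fin 3) F} {π : Equiv.Perm (Fin 3)} (h : ∀ i j, (A : Matrix (Fin 3) (Fin 3) F) i j ≠ 0 ↔ i = π j)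
    (d e : Fin 3 → Fˣ) (hde : ∀ j, d (π j) = e (π j) * d j) : dg d * A = dg e * A * dg d := by
  apply Units.ext
  rw [Units.val_mul, Units.val_mul, Units.val_mul, coe_dg, coe_dg]
  ext i j
  rw [Matrix.diagonal_mul, Matrix.mul_diagonal, Matrix.diagonal_mul]
  by_cases hij : (A : Matrix (Fin 3) (Fin 3) F) i j = 0
  · rw [hij, mul_zero, mul_zero, zero_mul]
  · rw [(h i j).1 hij, hde j, Units.val_mul]
    ring

end elts

/-! ### the theorem -/

section main

variable {F : Type} [Field F] [Fintype F] (hF : Fintype.card F = 3)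
  (B : GL (Fin 3) F) (hB : (B : Matrix (Fin 3) (Fin 3) F) = 1)
include hF hB

/-- the elements commuting with the duality -/
theorem exists_orth {x : MulAut (Matrix.ProjectiveSpecialLinearGroup (Fin 3) F)} {r : ℕ} (hr : Odd r) (hx : x ^ r = 1)
    (hc : gam B * x = x * gam B) : ∃ A : GL (Fin 3) F, x = Cj A ∧ (A : Matrix (Fin 3) (Fin 3) F)ᵀ * A = 1 := by
  obtain ⟨A, σ, rfl⟩ := exists_sem_of_odd (by rw [Fintype.card_fin]; norm_num) x hr hx
  have hσ := eq_refl3 hF σ
  subst hσ
  obtain ⟨c, hc0, h1⟩ := (gam_comm_iff A (RingEquiv.refl F) B).1 hc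
  refine ⟨A, Sem_one A, ?_⟩
  rw [hB, Matrix.mul_one, Matrix.map_one _ (map_zero _) (map_one _)] at h1
  have h2 := congrArg Matrix.det h1
  rw [Matrix.det_one, Matrix.det_smul, Fintype.card_fin, Matrix.det_mul, Matrix.det_transpose] at h2
  have h3 : (A : Matrix (Fin 3) (Fin 3) F).det ≠ 0 := by
    intro h4
    rw [h4, mul_zero, mul_zero] at h2
    exact one_ne_zero h2
  rw [sq3 hF h3, mul_one] at h2
  have h4 : c = 1 := by
    rcases cases3 hF c with h | h | h
    · exact (hc0 h).elim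
    · exact h
    · rw [h] at h2
      linear_combination h - h2
  rw [h4, one_smul] at h1
  exact h1.symm

/-- the root element -/
theorem root_mem : Cj (dg (dE F)) ∈ Subgroup.closure {z | ∃ q ∈ inn (Matrix.ProjectiveSpecialLinearGroup (Fin 3) F),
    q * Cj (dg (dE F)) = Cj (dg (dE F)) * q ∧ z = q * gam B * q⁻¹ * (gam B)⁻¹} := by
  have hB1 : B = 1 := Units.ext hB
  have h1 : Cj (qm F) * gam B * (Cj (qm F))⁻¹ * (gam B)⁻¹ = Cj (qm F * (ct (qm F))⁻¹) := by
    rw [comm_gam, hB1, inv_one, one_mul, mul_one]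
  have h2 : Cj (qm F * (ct (qm F))⁻¹) ∈ Subgroup.closure {z | ∃ q ∈ inn (Matrix.ProjectiveSpecialLinearGroup (Fin 3) F),
      q * Cj (dg (dE F)) = Cj (dg (dE F)) * q ∧ z = q * gam B * q⁻¹ * (gam B)⁻¹} := by
    apply Subgroup.subset_closure
    refine ⟨Cj (qm F), Cj_mem_inn _ det_qm, ?_, h1.symm⟩
    rw [← map_mul, ← map_mul, qm_dE]
  have h3 : Cj (dg (dE F)) = Cj (qm F * (ct (qm F))⁻¹) * Cj (qm F * (ct (qm F))⁻¹) := by
    rw [← map_mul, qm_sq (three_eq hF)]
  rw [h3]
  rw [h3] at h2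
  exact Subgroup.mul_mem _ h2 h2

omit hF in
theorem dg_comm (d : Fin 3 → Fˣ) (hd : ∀ i, d i * d i = 1) : Cj (dg d) * gam B = gam B * Cj (dg d) := by
  symm
  rw [gam_comm_Cj_iff]
  refine ⟨1, one_ne_zero, ?_⟩
  rw [hB, Matrix.mul_one, one_smul, coe_dg, Matrix.diagonal_transpose, Matrix.diagonal_mul_diagonal]
  symm
  rw [← Matrix.diagonal_one]
  congr 1
  funext i
  rw [← Units.val_mul, hd i, Units.val_one]

theorem killed_33 : Killed (gam B) := by
  have h3 := three_eq hF
  have hS : IsSimpleGroup (Matrix.ProjectiveSpecialLinearGroup (Fin 3) F) := Cfsg.Agent.S0249.result 3 le_rfl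
  have h11 : (-1 : F) ≠ 1 := by
    intro h
    apply one_ne_zero (α := F)
    linear_combination h3 + h
  have hyi : Cj (dg (dE F)) ∈ inn (Matrix.ProjectiveSpecialLinearGroup (Fin 3) F) := by
    apply Cj_mem_inn
    rw [coe_dg, Matrix.det_diagonal, Fin.prod_univ_three]
    simp [dE]
  have hy1 : Cj (dg (dE F)) ≠ 1 := by
    rw [Ne, Cj_eq_one_iff]
    rintro ⟨c, hc⟩
    have h1 := congrFun (congrFun hc 0) 0
    have h2 := congrFun (congrFun hc 2) 2
    rw [coe_dg] at h1 h2
    simp [dE] at h1 h2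
    exact h11 (h1.trans h2.symm)
  rw [killed_iff]
  intro κ _ x r hFam H hcov
  -- the structure of the elements
  have hx : ∀ i, r i = 3 ∧ ∃ (A : GL (Fin 3) F) (π : Equiv.Perm (Fin 3)), x i = Cj A ∧
      (∀ k j, (A : Matrix (Fin 3) (Fin 3) F) k j ≠ 0 ↔ k = π j) ∧
      ((π 0 = 1 ∧ π 1 = 2 ∧ π 2 = 0) ∨ (π 0 = 2 ∧ π 1 = 0 ∧ π 2 = 1)) := by
    intro i
    obtain ⟨A, hA, hA2⟩ := exists_orth hF B hB ((hFam.pr i).odd_of_ne_two (hFam.ne2 i)) (hFam.pow i) (hFam.commt i)
    obtain ⟨π, hπ⟩ := exists_perm hF (A : Matrix (Fin 3) (Fin 3) F) hA2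
    -- `π ^ r = 1`
    have h4 : π ^ r i = 1 := by
      have h5 : Cj (A ^ r i) = 1 := by rw [map_pow, ← hA, hFam.pow i]
      obtain ⟨c, hc⟩ := Cj_eq_one_iff.1 h5
      ext1 j
      rw [Equiv.Perm.one_apply]
      have h6 := (pow_entry hπ (r i) ((π ^ r i) j) j).2 rfl
      rw [Units.val_pow_eq_pow_val] at hc
      rw [hc, Matrix.smul_apply, smul_eq_mul] at h6
      have h7 := right_ne_zero_of_mul h6
      by_contra hne
      exact h7 (Matrix.one_apply_ne hne)
    have h5 : π ≠ 1 := by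
      intro h6
      rw [h6] at hπ
      -- `A` is diagonal, `A ^ 2 = 1`
      have h7 : A * A = 1 := by
        apply Units.ext
        rw [Units.val_mul, Units.val_one]
        ext k j
        have h8 : ∀ k j, k ≠ j → (A : Matrix (Fin 3) (Fin 3) F) k j = 0 := by
          intro k j hkj
          by_contra hne
          exact hkj ((hπ k j).1 hne)
        rw [Matrix.mul_apply, Finset.sum_eq_single j (fun l _ hl => by rw [h8 l j hl, mul_zero])
          (fun h => (h (Finset.mem_univ _)).elim)]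
        by_cases hkj : k = j
        · rw [hkj, Matrix.one_apply_eq]
          exact sq3 hF ((hπ j j).2 rfl)
        · rw [h8 k j hkj, zero_mul, Matrix.one_apply_ne hkj]
      have h8 : x i * x i = 1 := by rw [hA, ← map_mul, h7, map_one]
      have h9 : x i ^ 1 = 1 := by
        have h10 : orderOf (x i) ∣ 1 := by
          have h11 : orderOf (x i) ∣ 2 := orderOf_dvd_of_pow_eq_one (by rw [pow_two, h8])
          have h12 : orderOf (x i) ∣ r i := orderOf_dvd_of_pow_eq_one (hFam.pow i)
          have h13 : Nat.Coprime 2 (r i) := (Nat.coprime_primes Nat.prime_two (hFam.pr i)).2 (hFam.ne2 i).symm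
          rw [← h13.gcd_eq_one]
          exact Nat.dvd_gcd h11 h12
        exact orderOf_dvd_iff_pow_eq_one.1 h10
      rw [pow_one] at h9
      exact hFam.ne1 i h9
    have h6 := perm_prime π (hFam.pr i) (hFam.ne2 i) h4 h5
    rw [h6] at h4
    exact ⟨h6, A, π, hA, hπ, perm_three π h4 h5⟩
  by_cases hκ : Nonempty κ
  · obtain ⟨i₀⟩ := hκ
    refine fam_one hS hcov i₀ (fun i => hFam.inj ((hx i).1.trans (hx i₀).1.symm)) (Cj (dg (dE F))) hyi hy1 ?_
      (root_mem hF B hB)
    obtain ⟨-, A, π, hA, hπ, hcase⟩ := hx i₀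
    obtain ⟨d, hdd, hdet, hd⟩ : ∃ d : Fin 3 → Fˣ, (∀ i, d i * d i = 1) ∧
        (dg d : Matrix (Fin 3) (Fin 3) F).det = 1 ∧ ∀ j, d (π j) = dE F (π j) * d j := by
      rcases hcase with ⟨h0, h1, h2⟩ | ⟨h0, h1, h2⟩
      · refine ⟨![1, -1, -1], ?_, ?_, ?_⟩
        · intro i
          fin_cases i <;> simp
        · rw [coe_dg, Matrix.det_diagonal, Fin.prod_univ_three]
          simp
        · intro j
          fin_cases j
          · change ![1, -1, -1] (π 0) = dE F (π 0) * _
            rw [h0]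
            simp [dE]
          · change ![1, -1, -1] (π 1) = dE F (π 1) * _
            rw [h1]
            simp [dE]
          · change ![1, -1, -1] (π 2) = dE F (π 2) * _
            rw [h2]
            simp [dE]
      · refine ⟨![-1, 1, -1], ?_, ?_, ?_⟩
        · intro i
          fin_cases i <;> simp
        · rw [coe_dg, Matrix.det_diagonal, Fin.prod_univ_three]
          simp
        · intro j
          fin_cases j
          · change ![-1, 1, -1] (π 0) = dE F (π 0) * _
            rw [h0]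
            simp [dE]
          · change ![-1, 1, -1] (π 1) = dE F (π 1) * _
            rw [h1]
            simp [dE]
          · change ![-1, 1, -1] (π 2) = dE F (π 2) * _
            rw [h2]
            simp [dE]
    have h4 := comm_dg hπ d (dE F) hd
    have h5 : Cj (dg (dE F)) = (Cj (dg d) * x i₀ * (Cj (dg d))⁻¹) * (x i₀)⁻¹ := by
      rw [hA, eq_mul_inv_iff_mul_eq, eq_mul_inv_iff_mul_eq, ← map_mul, ← map_mul, ← map_mul, h4]
    rw [h5]
    refine Subgroup.mul_mem _ (Subgroup.subset_closure ⟨Cj (dg d), Cj_mem_inn _ hdet, dg_comm B hB d hdd, rfl⟩)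
      (Subgroup.inv_mem _ (Subgroup.subset_closure ⟨1, Subgroup.one_mem _, by rw [one_mul, mul_one], by
        rw [one_mul, inv_one, mul_one]⟩))
  · refine fam_root hS (gam B) H (Cj (dg (dE F))) hyi hy1 ?_ (root_mem hF B hB)
    intro n hn
    rcases hcov.pt n hn with h | ⟨i, -⟩
    · exact Or.inr h
    · exact (hκ ⟨i⟩).elim

end main

end Cfsg.Agent.H417.RC
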